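import Groth.Agent.L21.Bundle.Twist
import Groth.Agent.L22.CurveDeg.PushStalk
import Groth.Agent.L03.ShStab.RankOneSlope
import Groth.Agent.L03.ShStab.PolyOrd
import Groth.Agent.L03.ShStab.FinExtPoly
import Groth.Agent.L16.AffineBC.Pullback
import Groth.Agent.L18.AmplePull
import Groth.Agent.L19.IntegralHom
import Groth.Prelude.Def_ShStab

/-!
Stability of direct images along finite birational maps of integral curves.
-/

set_option autoImplicit false
set_option linter.style.haveILetI false
set_option linter.unusedSectionVars false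
set_option backward.isDefEq.respectTransparency.types false
set_option backward.isDefEq.respectTransparency false
universe u

open CategoryTheory CategoryTheory.Limits AlgebraicGeometry TopologicalSpace Polynomial StabCat

noncomputable section

namespace Groth.L11.PushStab

open Groth.L21.Bundle (rk dg)
open Groth.L03.ShStab (Basic.exists_hilb)

variable {X Y : Scheme.{u}} [IsIntegral X] [IsIntegral Y] (π : Y ⟶ X)

/-- The generic points correspond, uniquely, with bijective local map. -/
def IsGenIso : Prop :=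
  π (genericPoint Y) = genericPoint X ∧ (∀ y, π y = genericPoint X → y = genericPoint Y) ∧
    Function.Bijective (π.stalkMap (genericPoint Y))

theorem isGenIso_of_isIso_restrict (W : X.Opens) (hW : (W : Set X).Nonempty) [IsIso (π ∣_ W)] : IsGenIso π := by
  have hηW : genericPoint X ∈ W := ((genericPoint_spec X).mem_open_set_iff W.2).2 (by simpa [ShStab.twist] using hW)
  have hinj : ∀ y y' : Y, π y ∈ W → π y' = π y → y' = y := fun y y' hy he => by
    have h : (π ∣_ W) ⟨y', show π y' ∈ W from he ▸ hy⟩ = (π ∣_ W) ⟨y, hy⟩ := Subtype.ext (by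
      rw [morphismRestrict_base_coe, morphismRestrict_base_coe]; exact he)
    exact congrArg Subtype.val ((π ∣_ W).isOpenEmbedding.injective h)
  obtain ⟨v, hv⟩ : (⟨_, hηW⟩ : W.toScheme) ∈ Set.range (π ∣_ W) := (π ∣_ W).surjective _
  have hv' : π v.1 = genericPoint X := (morphismRestrict_base_coe π W v).symm.trans (congrArg Subtype.val hv)
  have hg : π (genericPoint Y) = genericPoint X :=
    ((((genericPoint_specializes v.1).map π.continuous).trans (specializes_of_eq hv')).antisymm
      (genericPoint_specializes _)).eq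
  refine ⟨hg, fun y hy => hinj _ y (hg ▸ hηW) (hy.trans hg.symm), ?_⟩
  let w : (π ⁻¹ᵁ W).toScheme := ⟨genericPoint Y, show π (genericPoint Y) ∈ W from hg ▸ hηW⟩
  haveI : IsIso ((π ∣_ W).stalkMap w) := inferInstance
  haveI : IsIso (π.stalkMap (genericPoint Y)) :=
    ((MorphismProperty.isomorphisms CommRingCat.{u}).arrow_mk_iso_iff (morphismRestrictStalkMap π W w)).1
      (MorphismProperty.isomorphisms.infer_property _)
  exact ConcreteCategory.bijective_of_isIso _

variable {π} (hπ : IsGenIso π)

include hπ in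
theorem rk_push (hc : IsClosedMap π) (M : Y.Modules) :
    rk ((Scheme.Modules.pushforward π).obj M) = rk M := by
  obtain ⟨hg, huniq, hbij⟩ := hπ
  refine (congrArg (fun x : X => Module.finrank (X.presheaf.stalk x)
    (((Scheme.Modules.pushforward π).obj M).presheaf.stalk x)) hg).symm.trans ?_
  have hb := Groth.L22.CurveDeg.c₀_bijective_of_fiber π hc (x := genericPoint Y)
    (fun y hy => huniq y (hy.trans hg)) M
  exact congrArg Cardinal.toNat (rank_eq_of_equiv_equiv (π.stalkMap (genericPoint Y)).hom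
    (AddEquiv.ofBijective (Groth.L17.ClosedPush.c₀ π M (genericPoint Y)) hb) hbij
    (fun r m => Groth.L17.ClosedPush.c₀_smul π M (genericPoint Y) r m))

include hπ in
theorem rk_pullback [IsLocallyNoetherian X] {F : X.Modules} (hF : Coh.IsCoh F) :
    rk ((Scheme.Modules.pullback π).obj F) = rk F := by
  obtain ⟨hg, -, -⟩ := hπ
  refine Eq.trans ?_ (congrArg (fun x : X => Module.finrank (X.presheaf.stalk x) (F.presheaf.stalk x)) hg)
  let A := X.presheaf.stalk (π (genericPoint Y))
  let B := Y.presheaf.stalk (genericPoint Y)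
  letI : Algebra A B := (π.stalkMap (genericPoint Y)).hom.toAlgebra
  haveI : Module.Finite A (F.presheaf.stalk (π (genericPoint Y))) :=
    Groth.L06.SupportStalk.finite_stalk F hF _
  have hA : IsField A := (congrArg (fun x : X => IsField (X.presheaf.stalk x)) hg).mpr (Field.toIsField X.functionField)
  letI := hA.toField
  haveI : Module.Free A (F.presheaf.stalk (π (genericPoint Y))) := Module.Free.of_divisionRing A _
  let el : ((Scheme.Modules.pullback π).obj F).presheaf.stalk (genericPoint Y) ≃ₗ[B]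
      TensorProduct A B (F.presheaf.stalk (π (genericPoint Y))) :=
    ((Groth.L00.PullStalk.stalkIso π (genericPoint Y)).app F).toLinearEquiv
  refine el.finrank_eq.trans ?_
  exact Module.finrank_baseChange

variable {k : Type u} [Field k]

section Curve

variable [IsLocallyNoetherian Y] [Y.Over (Spec (CommRingCat.of k))] [IsProper (Y ↘ Spec (CommRingCat.of k))]

include k in
/-- A nonzero submodule of a locally free module has positive generic rank. -/
theorem rk_pos {n : ℕ} {E K : Y.Modules} (hE : FlatMod.IsFinLocFreeOfRank n E) (ι : K ⟶ E) [Mono ι]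
    (hK : Coh.IsCoh K) (h0 : ¬ IsZero K) : 0 < rk K := by
  by_contra hr
  have hr' : rk K = 0 := by omega
  haveI : IsLocallyNoetherian Y := Groth.L03.ShStab.Basic.locallyNoetherian (k := k)
  have hF : RefHull.IsReflexive E := Groth.L03.ShStab.Rank2.isReflexive_of_rank (Groth.L21.Bundle.isCoh_of_rank hE) hE
  haveI : Module.Finite (Y.presheaf.stalk (genericPoint Y)) (K.presheaf.stalk (genericPoint Y)) :=
    Groth.L06.SupportStalk.finite_stalk K hK _
  letI : Field (Y.presheaf.stalk (genericPoint Y)) := inferInstanceAs (Field Y.functionField)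
  have hs : Subsingleton (K.presheaf.stalk (genericPoint Y)) := Module.finrank_zero_iff.1 hr'
  refine h0 ((Groth.L21.Mod.isZero_iff_stalk_subsingleton K).2 fun x => ⟨fun a b => ?_⟩)
  obtain ⟨U, hxU, t, ht⟩ := TopCat.Presheaf.exists_germ_eq (x := x) K.presheaf (a - b)
  have h0' : ι.app U t = 0 := Groth.L03.ShStab.RefPure.section_eq_zero hF _ (genericPoint Y)
    (fun V hV => (genericPoint_spec Y).mem_open_set_iff V.2 |>.2 (by simpa [ShStab.twist] using hV))
    fun hηU => by
      rw [← RefHull.stalkMapₗ_germ ι (genericPoint Y) hηU t, Subsingleton.elim (K.presheaf.germ U _ hηU t) 0,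
        map_zero]
  rw [← sub_eq_zero, ← ht,
    show t = 0 from Groth.L03.ShStab.CohSub.app_injective ι U (h0'.trans (map_zero (ι.app U).hom).symm), map_zero]

/-- A coherent module of positive generic rank is supported everywhere. -/
theorem dim_support_of_rk_pos {K : Y.Modules} (hK : Coh.IsCoh K) (h : 0 < rk K) :
    topologicalKrullDim (CohB1.support K) = topologicalKrullDim Y := by
  have hu : CohB1.support K = Set.univ := by
    refine Set.eq_univ_of_forall fun x => ?_
    refine (genericPoint_spec Y).specializes trivial |>.mem_closed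
      (Groth.L16.CohSupport.isClosed_support K hK.2) ?_
    show ¬ Subsingleton _
    intro hs
    have h0 : rk K = 0 := Module.finrank_zero_of_subsingleton
    omega
  rw [hu]
  exact IsHomeomorph.topologicalKrullDim_eq _ (Homeomorph.Set.univ Y).isHomeomorph

include k in
theorem isPure_of_rank {n : ℕ} {E : Y.Modules} (hE : FlatMod.IsFinLocFreeOfRank n E)
    (hd : topologicalKrullDim Y = 1) : _root_.ShStab.IsPure Y E 1 := fun _ ι hι hK h0 =>
  haveI := hι
  (dim_support_of_rk_pos hK (rk_pos (k := k) hE ι hK h0)).trans hd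

/-- Modules of generic rank zero have constant Hilbert polynomial. -/
theorem exists_isHilbPoly_C (hd : topologicalKrullDim Y = 1) {L : Y.Modules} (hL : PicF.IsInvertible L)
    {C : Y.Modules} (hC : Coh.IsCoh C) (hr : rk C = 0) :
    ∃ c : ℚ, _root_.ShStab.IsHilbPoly k Y L C (Polynomial.C c) := by
  refine ⟨(Curv2.euler k Y C : ℚ), fun m => ?_⟩
  have hN := Groth.L18.Ample.isInvertible_tensorPow hL m
  have h := Groth.L21.Bundle.dg_twist k hd hN hC
  rw [Groth.L21.Bundle.dg, Groth.L21.Bundle.dg, Groth.L21.Bundle.rk_twist hN C, hr, Curv2.deg, Curv2.deg] at h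
  rw [Polynomial.eval_C]
  norm_cast
  simpa [ShStab.twist] using h

end Curve

variable [X.Over (Spec (CommRingCat.of k))] [IsProper (X ↘ Spec (CommRingCat.of k))]
  [Y.Over (Spec (CommRingCat.of k))] [IsProper (Y ↘ Spec (CommRingCat.of k))] [IsFinite π]
  (hover : π ≫ (X ↘ Spec (CommRingCat.of k)) = Y ↘ Spec (CommRingCat.of k))

include hover in
theorem isHilbPoly_push {L : X.Modules} (hL : PicF.IsInvertible L) {G : Y.Modules} (hG : Coh.IsCoh G) {P : ℚ[X]}
    (hP : _root_.ShStab.IsHilbPoly k Y ((Scheme.Modules.pullback π).obj L) G P) :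
    _root_.ShStab.IsHilbPoly k X L ((Coh.push π).obj G) P := by
  intro m
  haveI : IsLocallyNoetherian Y := Groth.L03.ShStab.Basic.locallyNoetherian (k := k)
  haveI : X.IsSeparated := ⟨by rw [← terminal.comp_from (X ↘ Spec (CommRingCat.of k))]; infer_instance⟩
  have hN := Groth.L18.Ample.isInvertible_tensorPow hL m
  let N := CohB1.tensorPow L m
  let e : CohB1.tensorMod ((Coh.push π).obj G) N ≅
      (Coh.push π).obj (CohB1.tensorMod G (CohB1.tensorPow ((Scheme.Modules.pullback π).obj L) m)) :=
    Groth.L00.Tensor.tensorComm _ N ≪≫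
      (Groth.L17.ProjFormula.projIso π N (Groth.L16.Existence.isFinLocFree_of_isInvertible hN)).app G ≪≫
      (Coh.push π).mapIso (Groth.L00.Tensor.tensorComm _ G ≪≫
        Groth.L00.Tensor.tensorIso (Iso.refl G) (Groth.L18.Ample.pullPow π L m))
  have hq : Coh.IsQCoh (CohB1.tensorMod G (CohB1.tensorPow ((Scheme.Modules.pullback π).obj L) m)) :=
    (Groth.L03.Euler.isCoh_tensor (Groth.L18.Ample.isInvertible_tensorPow
      (Groth.L18.Ample.isInvertible_pullback π hL) m) hG).1
  change (Curv2.euler k X (CohB1.tensorMod _ N) : ℚ) = _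
  rw [Groth.L03.Euler.euler_iso (k := k) e, Groth.L03.Euler.euler_push π _ hq hover]
  exact hP m

include hπ in
/-- The source is a curve. -/
theorem dim_eq_one (hd : topologicalKrullDim X = 1) : topologicalKrullDim Y = 1 := by
  refine le_antisymm ((Groth.L19.topologicalKrullDim_le_of_isIntegralHom π).trans hd.le) ?_
  obtain ⟨x, hx⟩ : ∃ x : X, x ≠ genericPoint X := by
    by_contra! hall
    haveI : Subsingleton X := ⟨fun a b => (hall a).trans (hall b).symm⟩
    haveI : DiscreteTopology X := Subsingleton.discreteTopology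
    have := topologicalKrullDim_zero_of_discreteTopology X
    rw [hd] at this
    exact absurd this (by decide)
  obtain ⟨y, rfl⟩ : x ∈ Set.range π := by
    have hcl : IsClosed (Set.range π) := π.isClosedMap.isClosed_range
    exact (genericPoint_spec X).specializes trivial |>.mem_closed hcl ⟨_, hπ.1⟩
  rw [topologicalKrullDim, Order.one_le_krullDim_iff]
  refine ⟨⟨closure {y}, isIrreducible_singleton.closure, isClosed_closure⟩,
    ⟨Set.univ, IrreducibleSpace.isIrreducible_univ _, isClosed_univ⟩, lt_of_le_of_ne (Set.subset_univ _) fun h => hx ?_⟩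
  have h' : closure ({y} : Set Y) = Set.univ := congrArg TopologicalSpace.IrreducibleCloseds.carrier h
  rw [show y = genericPoint Y from ((genericPoint_spec Y).eq (h' : IsGenericPoint y Set.univ)).symm, hπ.1]

include hπ hover in
/-- A submodule of a direct image lies in the direct image of a submodule, with finite colength. -/
theorem exists_dominating (hd : topologicalKrullDim X = 1) {L : X.Modules} (hL : CohB1.IsAmple L) {n : ℕ}
    {E : Y.Modules} (hE : FlatMod.IsFinLocFreeOfRank n E) {F : X.Modules}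
    (ι : F ⟶ (Coh.push π).obj E) [Mono ι] (hF : Coh.IsCoh F) (h0 : ¬ IsZero F) :
    0 < rk F ∧ ∃ (G : Y.Modules) (j : G ⟶ E), Mono j ∧ Coh.IsCoh G ∧ ¬ IsZero G ∧
      ∀ pF, _root_.ShStab.IsHilbPoly k X L F pF →
        ∃ c : ℚ, 0 ≤ c ∧ (IsIso j → ¬ IsIso ι → 0 < c) ∧
          _root_.ShStab.IsHilbPoly k Y ((Scheme.Modules.pullback π).obj L) G (pF + Polynomial.C c) := by
  haveI : IsLocallyNoetherian X := Groth.L03.ShStab.Basic.locallyNoetherian (k := k)
  haveI : IsLocallyNoetherian Y := Groth.L03.ShStab.Basic.locallyNoetherian (k := k)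
  have hdY := dim_eq_one hπ hd
  let adj := Scheme.Modules.pullbackPushforwardAdjunction π
  let φ : (Scheme.Modules.pullback π).obj F ⟶ E := (adj.homEquiv F E).symm ι
  have hcE := Groth.L21.Bundle.isCoh_of_rank hE
  have hcP : Coh.IsCoh ((Scheme.Modules.pullback π).obj F) := Groth.L16.AffineBC.isCoh_pullback π hF
  let G := Abelian.image φ
  have hcG : Coh.IsCoh G := Groth.L21.Bundle.coh_image hcP hcE φ
  let θ : F ⟶ (Scheme.Modules.pushforward π).obj G :=
    adj.homEquiv F G (Abelian.factorThruImage φ)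
  have hθ : θ ≫ (Scheme.Modules.pushforward π).map (Abelian.image.ι φ) = ι := by
    rw [← adj.homEquiv_naturality_right, Abelian.image.fac, Equiv.apply_symm_apply]
  haveI : Mono (θ ≫ (Scheme.Modules.pushforward π).map (Abelian.image.ι φ)) := by rw [hθ]; infer_instance
  haveI : Mono θ := mono_of_mono θ ((Scheme.Modules.pushforward π).map (Abelian.image.ι φ))
  have hcPG : Coh.IsCoh ((Scheme.Modules.pushforward π).obj G) := Groth.L16.Exist.isCoh_pushforward π hcG
  have hG0 : ¬ IsZero G := fun hz => h0 (IsZero.of_mono θ (Functor.map_isZero _ hz))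
  have hr1 := (Groth.L21.Bundle.add_cokernel k hd.le θ hF hcPG).1
  rw [rk_push hπ π.isClosedMap] at hr1
  have hr2 := (Groth.L21.Bundle.add_kernel k hdY.le (Abelian.factorThruImage φ) hcP hcG).1
  rw [rk_pullback hπ hF] at hr2
  have hpos : 0 < rk G := rk_pos (k := k) hE (Abelian.image.ι φ) hcG hG0
  change rk F = _ + rk G at hr2
  change rk G = rk F + _ at hr1
  have hC0 : rk (cokernel θ) = 0 := by omega
  refine ⟨by omega, G, Abelian.image.ι φ, inferInstance, hcG, hG0, fun pF hpF => ?_⟩
  have hcC : Coh.IsCoh (cokernel θ) := Groth.L21.Bundle.coh_cokernel hF hcPG θ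
  obtain ⟨c, hc⟩ := exists_isHilbPoly_C (k := k) hd hL.1 hcC hC0
  obtain ⟨pG, hpG⟩ := Groth.L03.ShStab.Basic.exists_hilb (k := k) (d := 1)
    (Groth.L18.Ample.isInvertible_pullback π hL.1) hcG
    (Groth.L03.ShStab.RankOneSlope.dim_le (n := 1) hdY G)
  have hsum := Groth.L03.ShStab.Basic.hilb_cokernel hL hF hcPG θ hpF (isHilbPoly_push hover hL.1 hcG hpG) hc
  have hdC := Groth.L03.ShStab.RankOneSlope.dim_le (n := 1) hd (cokernel θ)
  refine ⟨c, ?_, fun hj hni => ?_, hsum ▸ hpG⟩
  · have h := Groth.L03.ShStab.Basic.nonneg_leadingCoeff hL hcC hdC hc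
    rwa [Polynomial.leadingCoeff_C] at h
  · have h := Groth.L03.ShStab.Basic.leadingCoeff_pos hL hcC (fun hz => ?_) hdC hc
    · rwa [Polynomial.leadingCoeff_C] at h
    · haveI : Epi θ := Preadditive.epi_of_isZero_cokernel θ hz
      haveI : IsIso θ := isIso_of_mono_of_epi θ
      exact hni (hθ ▸ inferInstance)

include hπ hover in
theorem isPure_push (hd : topologicalKrullDim X = 1) {L : X.Modules} (hL : CohB1.IsAmple L) {n : ℕ}
    {E : Y.Modules} (hE : FlatMod.IsFinLocFreeOfRank n E) :
    _root_.ShStab.IsPure X ((Coh.push π).obj E) 1 := fun _ ι hι hF h0 =>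
  haveI := hι
  haveI : IsLocallyNoetherian X := Groth.L03.ShStab.Basic.locallyNoetherian (k := k)
  (dim_support_of_rk_pos hF (exists_dominating (k := k) hπ hover hd hL hE ι hF h0).1).trans hd

include hπ hover in
theorem isZero_push_iff (hd : topologicalKrullDim X = 1) {L : X.Modules} (hL : CohB1.IsAmple L)
    {G : Y.Modules} (hG : Coh.IsCoh G) :
    IsZero ((Coh.push π).obj G) ↔ IsZero G := by
  refine ⟨fun hz => ?_, fun hz => Functor.map_isZero _ hz⟩
  have hdY := dim_eq_one hπ hd
  have hdim := Groth.L03.ShStab.RankOneSlope.dim_le (n := 1) hdY G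
  obtain ⟨p, hp⟩ := Groth.L03.ShStab.Basic.exists_hilb (k := k) (d := 1)
    (Groth.L18.Ample.isInvertible_pullback π hL.1) hG hdim
  have h := Groth.L03.Euler.isHilbPoly_unique (isHilbPoly_push hover hL.1 hG hp)
    (Groth.L03.Euler.isHilbPoly_zero hL.1 hz)
  exact Groth.L03.ShStab.Basic.isZero_of_hilb_eq_zero (Groth.L18.Ample.isAmple_pullback_of_isAffineHom π hL)
    hG hdim (h ▸ hp)

include hπ hover in
theorem isIso_of_isIso_push (hd : topologicalKrullDim X = 1) {L : X.Modules} (hL : CohB1.IsAmple L)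
    {G E : Y.Modules} (hG : Coh.IsCoh G) (hE : Coh.IsCoh E) (j : G ⟶ E) [Mono j]
    [IsIso ((Coh.push π).map j)] : IsIso j := by
  haveI : IsLocallyNoetherian Y := Groth.L03.ShStab.Basic.locallyNoetherian (k := k)
  have hdY := dim_eq_one hπ hd
  have hL' := Groth.L18.Ample.isAmple_pullback_of_isAffineHom π hL
  have hdim := fun M => Groth.L03.ShStab.RankOneSlope.dim_le (n := 1) hdY M
  have hcC := Groth.L21.Bundle.coh_cokernel hG hE j
  obtain ⟨pG, hpG⟩ := Groth.L03.ShStab.Basic.exists_hilb (k := k) (d := 1) hL'.1 hG (hdim G)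
  obtain ⟨pE, hpE⟩ := Groth.L03.ShStab.Basic.exists_hilb (k := k) (d := 1) hL'.1 hE (hdim E)
  obtain ⟨pC, hpC⟩ := Groth.L03.ShStab.Basic.exists_hilb (k := k) (d := 1) hL'.1 hcC (hdim _)
  have hsum := Groth.L03.ShStab.Basic.hilb_cokernel hL' hG hE j hpG hpE hpC
  have heq : pG = pE := Groth.L03.Euler.isHilbPoly_unique
    (Groth.L03.Euler.isHilbPoly_iso (asIso ((Coh.push π).map j)) (isHilbPoly_push hover hL.1 hG hpG))
    (isHilbPoly_push hover hL.1 hE hpE)
  have h0 : pC = 0 := by rw [heq] at hsum; exact left_eq_add.mp hsum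
  haveI : Epi j := Preadditive.epi_of_isZero_cokernel j
    (Groth.L03.ShStab.Basic.isZero_of_hilb_eq_zero hL' hcC (hdim _) (h0 ▸ hpC))
  exact isIso_of_mono_of_epi j

theorem alpha_one_add_C (p : ℚ[X]) (c : ℚ) : alpha 1 (p + Polynomial.C c) = alpha 1 p := by
  simp [alpha, Polynomial.coeff_C]

variable (hd : topologicalKrullDim X = 1) {L : X.Modules} (hL : CohB1.IsAmple L) {n : ℕ}
  {E : Y.Modules} (hE : FlatMod.IsFinLocFreeOfRank n E)

include hπ hover hd hL hE in
/-- Semistability of a bundle and of its direct image. -/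
theorem isSemistable_push_iff :
    _root_.ShStab.IsSemistable k Y ((Scheme.Modules.pullback π).obj L) E 1 ↔
      _root_.ShStab.IsSemistable k X L ((Coh.push π).obj E) 1 := by
  haveI : IsLocallyNoetherian X := Groth.L03.ShStab.Basic.locallyNoetherian (k := k)
  haveI : IsLocallyNoetherian Y := Groth.L03.ShStab.Basic.locallyNoetherian (k := k)
  have hcE := Groth.L21.Bundle.isCoh_of_rank hE
  have hdY := dim_eq_one hπ hd
  have hL' := Groth.L18.Ample.isAmple_pullback_of_isAffineHom π hL
  constructor
  · rintro ⟨-, h0, hp, hss⟩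
    refine ⟨Groth.L16.Exist.isCoh_pushforward π hcE, fun hz => h0 ((isZero_push_iff hπ hover hd hL hcE).1 hz),
      isPure_push hπ hover hd hL hE, fun F ι hι hF hF0 hni pF pE hpF hpE => ?_⟩
    haveI := hι
    obtain ⟨qE, hqE⟩ := Groth.L03.ShStab.Basic.exists_hilb (k := k) (d := 1) hL'.1 hcE
      (Groth.L03.ShStab.RankOneSlope.dim_le (n := 1) hdY E)
    obtain rfl := Groth.L03.Euler.isHilbPoly_unique hpE (isHilbPoly_push hover hL.1 hcE hqE)
    have hαE := Groth.L03.ShStab.Basic.alpha_pos hL' hcE (hp E (𝟙 E) inferInstance hcE h0) hqE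
    obtain ⟨-, G, j, hj, hG, hG0, hc⟩ := exists_dominating (k := k) hπ hover hd hL hE ι hF hF0
    obtain ⟨c, hc0, -, hpG⟩ := hc pF hpF
    by_cases hji : IsIso j
    · have he : pF + Polynomial.C c = pE := Groth.L03.Euler.isHilbPoly_unique
        (Groth.L03.Euler.isHilbPoly_iso (asIso j) hpG) hqE
      subst he
      refine ⟨0, fun m _ => ?_⟩
      simp only [eval_smul, smul_eq_mul, eval_add, eval_C, alpha_one_add_C] at hαE ⊢
      exact mul_le_mul_of_nonneg_left (by linarith) hαE.le
    · obtain ⟨N, hN⟩ := hss G j hj hG hG0 hji _ _ hpG hqE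
      refine ⟨N, fun m hm => ?_⟩
      have h := hN m hm
      simp only [eval_smul, smul_eq_mul, eval_add, eval_C, alpha_one_add_C] at h ⊢
      nlinarith [mul_nonneg hαE.le hc0]
  · rintro ⟨-, h0, -, hss⟩
    refine ⟨hcE, fun hz => h0 (Functor.map_isZero _ hz), isPure_of_rank (k := k) hE hdY,
      fun G j hj hG hG0 hji pG pE hpG hpE => ?_⟩
    haveI := hj
    haveI : Mono ((Coh.push π).map j) := inferInstanceAs (Mono ((Scheme.Modules.pushforward π).map j))
    exact hss _ ((Coh.push π).map j) inferInstance (Groth.L16.Exist.isCoh_pushforward π hG)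
      (fun hz => hG0 ((isZero_push_iff hπ hover hd hL hG).1 hz))
      (fun hi => haveI := hi; hji (isIso_of_isIso_push hπ hover hd hL hG hcE j))
      pG pE (isHilbPoly_push hover hL.1 hG hpG) (isHilbPoly_push hover hL.1 hcE hpE)

include hπ hover hd hL hE in
/-- Stability of a bundle and of its direct image. -/
theorem isStable_push_iff :
    _root_.ShStab.IsStable k Y ((Scheme.Modules.pullback π).obj L) E 1 ↔
      _root_.ShStab.IsStable k X L ((Coh.push π).obj E) 1 := by
  haveI : IsLocallyNoetherian X := Groth.L03.ShStab.Basic.locallyNoetherian (k := k)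
  haveI : IsLocallyNoetherian Y := Groth.L03.ShStab.Basic.locallyNoetherian (k := k)
  have hcE := Groth.L21.Bundle.isCoh_of_rank hE
  have hdY := dim_eq_one hπ hd
  have hL' := Groth.L18.Ample.isAmple_pullback_of_isAffineHom π hL
  constructor
  · rintro ⟨-, h0, hp, hss⟩
    refine ⟨Groth.L16.Exist.isCoh_pushforward π hcE, fun hz => h0 ((isZero_push_iff hπ hover hd hL hcE).1 hz),
      isPure_push hπ hover hd hL hE, fun F ι hι hF hF0 hni pF pE hpF hpE => ?_⟩
    haveI := hι
    obtain ⟨qE, hqE⟩ := Groth.L03.ShStab.Basic.exists_hilb (k := k) (d := 1) hL'.1 hcE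
      (Groth.L03.ShStab.RankOneSlope.dim_le (n := 1) hdY E)
    obtain rfl := Groth.L03.Euler.isHilbPoly_unique hpE (isHilbPoly_push hover hL.1 hcE hqE)
    have hαE := Groth.L03.ShStab.Basic.alpha_pos hL' hcE (hp E (𝟙 E) inferInstance hcE h0) hqE
    obtain ⟨-, G, j, hj, hG, hG0, hc⟩ := exists_dominating (k := k) hπ hover hd hL hE ι hF hF0
    obtain ⟨c, hc0, hcpos, hpG⟩ := hc pF hpF
    by_cases hji : IsIso j
    · have he : pF + Polynomial.C c = pE := Groth.L03.Euler.isHilbPoly_unique
        (Groth.L03.Euler.isHilbPoly_iso (asIso j) hpG) hqE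
      subst he
      refine ⟨0, fun m _ => ?_⟩
      simp only [eval_smul, smul_eq_mul, eval_add, eval_C, alpha_one_add_C] at hαE ⊢
      exact mul_lt_mul_of_pos_left (by linarith [hcpos hji hni]) hαE
    · obtain ⟨N, hN⟩ := hss G j hj hG hG0 hji _ _ hpG hqE
      refine ⟨N, fun m hm => ?_⟩
      have h := hN m hm
      simp only [eval_smul, smul_eq_mul, eval_add, eval_C, alpha_one_add_C] at h ⊢
      nlinarith [mul_nonneg hαE.le hc0]
  · rintro ⟨-, h0, -, hss⟩
    refine ⟨hcE, fun hz => h0 (Functor.map_isZero _ hz), isPure_of_rank (k := k) hE hdY,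
      fun G j hj hG hG0 hji pG pE hpG hpE => ?_⟩
    haveI := hj
    haveI : Mono ((Coh.push π).map j) := inferInstanceAs (Mono ((Scheme.Modules.pushforward π).map j))
    exact hss _ ((Coh.push π).map j) inferInstance (Groth.L16.Exist.isCoh_pushforward π hG)
      (fun hz => hG0 ((isZero_push_iff hπ hover hd hL hG).1 hz))
      (fun hi => haveI := hi; hji (isIso_of_isIso_push hπ hover hd hL hG hcE j))
      pG pE (isHilbPoly_push hover hL.1 hG hpG) (isHilbPoly_push hover hL.1 hcE hpE)

end Groth.L11.PushStab
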